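import Groth.Agent.LimLib.Props
import Groth.Agent.LimLib.StalkSystem
import Groth.Agent.LimGrp.Quot
import Groth.Agent.S3036
import Groth.Agent.S0346
import Groth.Prelude.Def_Red

/-!
# Properties near the generic point of an integral base

* `exists_open_isClosedImmersion`: closed immersion at the generic fibre spreads to an open.
* `exists_open_mono_hom`: a quasi-compact monomorphism of group schemes is a closed immersion over an open.
* `exists_open_separated`: a group scheme of finite type is separated over an open.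
-/

set_option autoImplicit false
set_option linter.style.haveILetI false

universe u

open CategoryTheory CategoryTheory.Limits AlgebraicGeometry MonoidalCategory CartesianMonoidalCategory MonObj GrpObj Opposite

namespace Groth.Agent.GenOpen19

variable {S : Scheme.{u}} [IsIntegral S]

set_option maxHeartbeats 800000 in
/-- A morphism which is a closed immersion over the generic point is one over a nonempty open. -/
theorem exists_open_isClosedImmersion {X Y : Scheme.{u}} (f : X ⟶ Y) (g : Y ⟶ S) [LocallyOfFiniteType f]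
    [QuasiCompact f] [QuasiSeparated f] [QuasiCompact g] [QuasiSeparated g]
    (h : IsClosedImmersion (pullback.snd f (pullback.fst g (S.fromSpecStalk (genericPoint S))))) :
    ∃ U : S.Opens, (U : Set S).Nonempty ∧
      ∀ (T : Scheme.{u}) (t : T ⟶ U.toScheme), IsClosedImmersion (pullback.snd f (pullback.fst g (t ≫ U.ι))) := by
  obtain ⟨σ⟩ := LimLib.nonempty_stalkSystem S (genericPoint S)
  obtain ⟨hc⟩ := σ.isLimit
  haveI hopen := σ.isOpenImmersion
  haveI : ∀ (i j : σ.Jᵒᵖ) (a : i ⟶ j), IsAffineHom (σ.D.map a) := fun i j a => inferInstance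
  let i₀ : σ.Jᵒᵖ := op (Classical.arbitrary σ.J)
  let ι₀ : σ.D.obj i₀ ⟶ S := σ.ι.app i₀
  let g₀ : pullback g ι₀ ⟶ σ.D.obj i₀ := pullback.snd g ι₀
  let f₀ : pullback f (pullback.fst g ι₀) ⟶ pullback g ι₀ := pullback.snd f (pullback.fst g ι₀)
  haveI : CompactSpace ↑(pullback g ι₀) := QuasiCompact.compactSpace_of_compactSpace g₀
  haveI : QuasiSeparatedSpace ↑(pullback g ι₀) := quasiSeparatedSpace_of_quasiSeparated g₀
  haveI : CompactSpace ↑(pullback f (pullback.fst g ι₀)) := QuasiCompact.compactSpace_of_compactSpace f₀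
  haveI : QuasiSeparatedSpace ↑(pullback f (pullback.fst g ι₀)) := quasiSeparatedSpace_of_quasiSeparated f₀
  have hY := IsPullback.of_hasPullback g₀ (σ.π.app i₀)
  have hX := IsPullback.of_hasPullback f₀ (pullback.fst g₀ (σ.π.app i₀))
  have hP : IsClosedImmersion (pullback.snd f₀ (pullback.fst g₀ (σ.π.app i₀))) := by
    refine LimLib.property_of_factor (P := @IsClosedImmersion)
      (IsPullback.of_hasPullback f (pullback.fst g (S.fromSpecStalk (genericPoint S))))
      (hX.paste_horiz (IsPullback.of_hasPullback f (pullback.fst g ι₀)))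
      (pullback.lift (pullback.fst g₀ (σ.π.app i₀) ≫ pullback.fst g ι₀) (pullback.snd g₀ (σ.π.app i₀)) ?_)
      (pullback.lift_fst _ _ _) h
    rw [Category.assoc, pullback.condition, ← σ.fac i₀, pullback.condition_assoc]
  obtain ⟨j, φ, Xj, Yj, fj, gj, pY, pX, hYj, hXj, hPj⟩ :=
    LimLib.descends_isClosedImmersion.exists_stage (c := Cone.mk _ σ.π) hc f₀ hY hX
      (show LocallyOfFiniteType f₀ from inferInstance) hP
  let U := (σ.ι.app j : σ.D.obj j ⟶ S).opensRange
  obtain ⟨y, hy⟩ := σ.mem j
  refine ⟨U, ⟨_, ⟨y, hy⟩⟩, fun T t => ?_⟩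
  let e : T ⟶ σ.D.obj j := IsOpenImmersion.lift (σ.ι.app j) (t ≫ U.ι) (by
    rintro _ ⟨w, rfl⟩
    exact (t w).2)
  have he : e ≫ σ.ι.app j = t ≫ U.ι := IsOpenImmersion.lift_fac _ _ _
  have hι : σ.D.map φ ≫ ι₀ = σ.ι.app j := by
    have := σ.ι.naturality φ
    simpa [ι₀] using this
  let w : pullback g (t ≫ U.ι) ⟶ pullback g ι₀ :=
    pullback.lift (pullback.fst g (t ≫ U.ι)) (pullback.snd g (t ≫ U.ι) ≫ e ≫ σ.D.map φ) (by
      rw [pullback.condition, Category.assoc, Category.assoc, hι, he])
  let v : pullback g (t ≫ U.ι) ⟶ Yj := hYj.lift w (pullback.snd g (t ≫ U.ι) ≫ e) (by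
    simp only [w, g₀, pullback.lift_snd, Category.assoc])
  exact LimLib.property_of_factor (P := @IsClosedImmersion)
    (hXj.paste_horiz (IsPullback.of_hasPullback f (pullback.fst g ι₀)))
    (IsPullback.of_hasPullback f (pullback.fst g (t ≫ U.ι))) v
    (by rw [IsPullback.lift_fst_assoc]; exact pullback.lift_fst _ _ _) hPj

theorem exists_open_map {X Y : Over S} (u : X ⟶ Y) [LocallyOfFiniteType u.left]
    [QuasiCompact u.left] [QuasiSeparated u.left] [QuasiCompact Y.hom] [QuasiSeparated Y.hom]
    (h : IsClosedImmersion ((Over.pullback (S.fromSpecStalk (genericPoint S))).map u).left) :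
    ∃ U : S.Opens, (U : Set S).Nonempty ∧
      ∀ (T : Scheme.{u}) (t : T ⟶ U.toScheme), IsClosedImmersion ((Over.pullback (t ≫ U.ι)).map u).left := by
  have key : ∀ {T : Scheme.{u}} (p : T ⟶ S), IsClosedImmersion ((Over.pullback p).map u).left ↔
      IsClosedImmersion (pullback.snd u.left (pullback.fst Y.hom p)) := fun p =>
    ⟨LimLib.property_of_factor (P := @IsClosedImmersion) (LimGrp.isPullback_map_left p u)
        (IsPullback.of_hasPullback _ _) (𝟙 _) (Category.id_comp _),
      LimLib.property_of_factor (P := @IsClosedImmersion) (IsPullback.of_hasPullback _ _)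
        (LimGrp.isPullback_map_left p u) (𝟙 _) (Category.id_comp _)⟩
  obtain ⟨U, hU, hT⟩ := exists_open_isClosedImmersion u.left Y.hom ((key _).1 h)
  exact ⟨U, hU, fun T t => (key _).2 (hT T t)⟩

/-- A quasi-compact monomorphism of group schemes is a closed immersion over a nonempty open. -/
theorem exists_open_mono_hom (G H : Over S) [GrpObj G] [GrpObj H] [LocallyOfFiniteType G.hom] [QuasiCompact G.hom]
    [QuasiSeparated G.hom] [LocallyOfFiniteType H.hom] (i : H ⟶ G) [IsMonHom i] [Mono i] [QuasiCompact i.left] :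
    ∃ U : S.Opens, (U : Set S).Nonempty ∧
      ∀ (T : Scheme.{u}) (t : T ⟶ U.toScheme), IsClosedImmersion ((Over.pullback (t ≫ U.ι)).map i).left := by
  haveI : LocallyOfFiniteType i.left := by
    haveI : LocallyOfFiniteType (i.left ≫ G.hom) := by rw [Over.w i]; infer_instance
    exact locallyOfFiniteType_of_comp i.left G.hom
  haveI : Mono i.left := inferInstanceAs (Mono ((Over.forget S).map i))
  refine exists_open_map i ?_
  let p := S.fromSpecStalk (genericPoint S)
  haveI : QuasiCompact ((Over.pullback p).map i).left :=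
    LimGrp.property_map @QuasiCompact p i inferInstance
  haveI hArt : IsArtinianRing (S.presheaf.stalk (genericPoint S)) :=
    (inferInstance : IsArtinianRing S.functionField)
  haveI : IsLocalRing (S.presheaf.stalk (genericPoint S)) := inferInstance
  haveI : LocallyOfFiniteType ((Over.pullback p).obj G).hom :=
    inferInstanceAs (LocallyOfFiniteType (pullback.snd G.hom p))
  haveI : LocallyOfFiniteType ((Over.pullback p).obj H).hom :=
    inferInstanceAs (LocallyOfFiniteType (pullback.snd H.hom p))
  exact @S3036.result (S.presheaf.stalk (genericPoint S)) _ hArt _ _ _ _ _ _ _ ((Over.pullback p).map i) _ _ _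

/-- A group scheme of finite type is separated over a nonempty open. -/
theorem exists_open_separated (G : Over S) [GrpObj G] [LocallyOfFiniteType G.hom] [QuasiCompact G.hom]
    [QuasiSeparated G.hom] :
    ∃ U : S.Opens, (U : Set S).Nonempty ∧
      ∀ (T : Scheme.{u}) (t : T ⟶ U.toScheme), IsSeparated (pullback.snd G.hom (t ≫ U.ι)) := by
  haveI hmm : IsMonHom η[G] :=
    { one_hom := by rw [toUnit_unique η[𝟙_ (Over S)] (𝟙 _), Category.id_comp]
      mul_hom := by
        rw [toUnit_unique μ[𝟙_ (Over S)] (λ_ (𝟙_ (Over S))).hom, tensorHom_def', Category.assoc, MonObj.one_mul,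
          leftUnitor_naturality] }
  haveI : IsSplitMono η[G] := ⟨⟨⟨toUnit G, toUnit_unique _ _⟩⟩⟩
  haveI : QuasiCompact η[G].left := (S0346.result S G).2.1 inferInstance
  haveI : LocallyOfFiniteType (𝟙_ (Over S)).hom := inferInstanceAs (LocallyOfFiniteType (𝟙 S))
  obtain ⟨U, hU, hT⟩ := exists_open_mono_hom G (𝟙_ (Over S)) η[G]
  refine ⟨U, hU, fun T t => ?_⟩
  letI : GrpObj ((Over.pullback (t ≫ U.ι)).obj G) := Functor.grpObjObj
  refine (S0346.result T ((Over.pullback (t ≫ U.ι)).obj G)).1.2 ?_
  rw [Functor.obj.η_def, Over.comp_left]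
  haveI : IsIso (Functor.LaxMonoidal.ε (Over.pullback (t ≫ U.ι))).left :=
    inferInstanceAs (IsIso ((Over.forget T).map _))
  exact (MorphismProperty.cancel_left_of_respectsIso (P := @IsClosedImmersion) _ _).2 (hT T t)

end Groth.Agent.GenOpen19
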