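import Groth.Agent.S5356
import Groth.Agent.FlatOpen.GenFreeDomain

/-!
# Essential freeness near the generic point of an integral base
-/

set_option autoImplicit false
set_option linter.style.haveILetI false

universe u

open CategoryTheory CategoryTheory.Limits AlgebraicGeometry TensorProduct

namespace Groth.Agent.GenOpen19

theorem isPullback_cancel_mono {P X Y Z Z' : Scheme.{u}} {p : P ⟶ X} {q : P ⟶ Y} {h : X ⟶ Z} {k : Y ⟶ Z}
    (m : Z ⟶ Z') [Mono m] (sq : IsPullback p q (h ≫ m) (k ≫ m)) : IsPullback p q h k := by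
  have w : p ≫ h = q ≫ k := by
    rw [← cancel_mono m, Category.assoc, Category.assoc]; exact sq.w
  exact ⟨⟨w⟩, ⟨PullbackCone.IsLimit.mk w (fun s => sq.lift s.fst s.snd (by rw [reassoc_of% s.condition]))
    (fun s => sq.lift_fst _ _ _) (fun s => sq.lift_snd _ _ _)
    (fun s l h1 h2 => sq.hom_ext (by rw [h1, sq.lift_fst]) (by rw [h2, sq.lift_snd]))⟩⟩

set_option maxHeartbeats 800000 in
/-- Over an integral base a quasi-compact morphism of finite type is, over a nonempty affine open, covered by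
affines with projective rings of sections. -/
theorem exists_open_hasProjCover {S X : Scheme.{u}} [IsIntegral S] (f : X ⟶ S) [LocallyOfFiniteType f]
    [QuasiCompact f] :
    ∃ U : S.Opens, (U : Set S).Nonempty ∧ IsAffineOpen U ∧ S5356.HasProjCover (pullback.snd f U.ι) := by
  classical
  obtain ⟨V, hV, hηV, -⟩ := exists_isAffineOpen_mem_and_subset
    (show genericPoint S ∈ (⊤ : S.Opens) from trivial)
  haveI : IsAffine V.toScheme := hV
  haveI : Nonempty V.toScheme := ⟨⟨_, hηV⟩⟩
  haveI : IsIntegral V.toScheme := isIntegral_of_isOpenImmersion V.ι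
  let R : CommRingCat.{u} := Γ(V.toScheme, ⊤)
  haveI : IsDomain R := inferInstanceAs (IsDomain Γ(V.toScheme, ⊤))
  obtain ⟨s, hs⟩ := (isCompact_and_isOpen_iff_finite_and_eq_biUnion_affineOpens (X := X)).1
    ⟨f.isCompact_preimage hV.isCompact, (f ⁻¹ᵁ V).2⟩
  have hle : ∀ W ∈ s, (W : X.Opens) ≤ f ⁻¹ᵁ V := fun W hW x hx => by
    show x ∈ ((f ⁻¹ᵁ V : X.Opens) : Set X)
    rw [show ((f ⁻¹ᵁ V : X.Opens) : Set X) = _ from hs.2]
    exact Set.mem_iUnion₂.2 ⟨W, hW, hx⟩
  have hgen : ∀ W : s, ∃ a : R, a ≠ 0 ∧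
      (letI := (f.resLE V W.1.1 (hle W.1 W.2)).appTop.hom.toAlgebra
       Module.Free (Localization.Away a) (Localization.Away a ⊗[R] Γ((W.1.1 : Scheme.{u}), ⊤))) := by
    intro W
    haveI : IsAffine (W.1.1 : Scheme.{u}) := W.1.2
    haveI : LocallyOfFiniteType (f.resLE V W.1.1 (hle W.1 W.2)) := by
      haveI : LocallyOfFiniteType (f.resLE V W.1.1 (hle W.1 W.2) ≫ V.ι) := by
        rw [Scheme.Hom.resLE_comp_ι]; infer_instance
      exact locallyOfFiniteType_of_comp _ V.ι
    letI := (f.resLE V W.1.1 (hle W.1 W.2)).appTop.hom.toAlgebra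
    haveI : Algebra.FiniteType R Γ((W.1.1 : Scheme.{u}), ⊤) :=
      (HasRingHomProperty.iff_of_isAffine (P := @LocallyOfFiniteType)).1 inferInstance
    obtain ⟨a, ha, hfree, -⟩ :=
      FlatOpen.exists_genFree R Γ((W.1.1 : Scheme.{u}), ⊤) Γ((W.1.1 : Scheme.{u}), ⊤)
    exact ⟨a, ha, hfree⟩
  choose a ha hfree using hgen
  haveI : Fintype s := hs.1.fintype
  let b : R := ∏ W : s, a W
  have hb : b ≠ 0 := Finset.prod_ne_zero_iff.2 fun W _ => ha W
  let L : Type u := Localization.Away b
  let t : Spec (CommRingCat.of L) ⟶ V.toScheme :=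
    Spec.map (CommRingCat.ofHom (algebraMap R L)) ≫ V.toScheme.isoSpec.inv
  haveI : IsOpenImmersion (Spec.map (CommRingCat.ofHom (algebraMap R L))) := IsOpenImmersion.of_isLocalization b
  haveI : Nontrivial L :=
    (IsLocalization.injective (M := Submonoid.powers b) L (powers_le_nonZeroDivisors_of_noZeroDivisors hb)).nontrivial
  obtain ⟨p⟩ : Nonempty (Spec (CommRingCat.of L)) := inferInstanceAs (Nonempty (PrimeSpectrum L))
  let τ : Spec (CommRingCat.of L) ⟶ S := t ≫ V.ι
  let U := τ.opensRange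
  refine ⟨U, ⟨_, ⟨p, rfl⟩⟩, isAffineOpen_opensRange τ, ?_⟩
  haveI : IsAffine U.toScheme := isAffineOpen_opensRange τ
  have hcov : S5356.HasProjCover (pullback.snd f τ) := by
    intro x
    have hx : pullback.fst f τ x ∈ f ⁻¹ᵁ V := by
      show f (pullback.fst f τ x) ∈ V
      rw [← Scheme.Hom.comp_apply, pullback.condition, Scheme.Hom.comp_apply]
      exact (t (pullback.snd f τ x)).2
    have hx' : pullback.fst f τ x ∈ ((f ⁻¹ᵁ V : X.Opens) : Set X) := hx
    rw [show ((f ⁻¹ᵁ V : X.Opens) : Set X) = _ from hs.2] at hx'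
    obtain ⟨W, hWs, hxW⟩ := Set.mem_iUnion₂.1 hx'
    let Ws : s := ⟨W, hWs⟩
    haveI : IsAffine (W.1 : Scheme.{u}) := W.2
    let hr := f.resLE V W.1 (hle W hWs)
    let O := pullback.fst f τ ⁻¹ᵁ W.1
    have sq : IsPullback (pullback.fst f τ ∣_ W.1) (O.ι ≫ pullback.snd f τ) hr t := by
      refine isPullback_cancel_mono V.ι ?_
      rw [show hr ≫ V.ι = W.1.ι ≫ f from Scheme.Hom.resLE_comp_ι f _]
      exact (isPullback_morphismRestrict (pullback.fst f τ) W.1).paste_vert (IsPullback.of_hasPullback f τ)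
    haveI : IsAffine O.toScheme := .of_isPullback sq
    refine ⟨O, hxW, (inferInstance : IsAffine O.toScheme), ?_⟩
    have hpush := isPushout_appTop_of_isPullback sq
    let A : Type u := Γ(Spec (CommRingCat.of L), ⊤)
    let B : Type u := Γ((W.1 : Scheme.{u}), ⊤)
    let P : Type u := Γ(O.toScheme, ⊤)
    letI := hr.appTop.hom.toAlgebra
    letI : Algebra R A := t.appTop.hom.toAlgebra
    letI : Algebra B P := (pullback.fst f τ ∣_ W.1).appTop.hom.toAlgebra
    letI : Algebra A P := (O.ι ≫ pullback.snd f τ).appTop.hom.toAlgebra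
    letI : Algebra R P := ((pullback.fst f τ ∣_ W.1).appTop.hom.comp hr.appTop.hom).toAlgebra
    haveI : IsScalarTower R B P := .of_algebraMap_eq' rfl
    haveI : IsScalarTower R A P := .of_algebraMap_eq' congr($(hpush.1.1).hom)
    haveI : Algebra.IsPushout R B A P := CommRingCat.isPushout_iff_isPushout.mp hpush
    haveI : Algebra.IsPushout R A B P := Algebra.IsPushout.symm ‹_›
    have ht : t.appTop = CommRingCat.ofHom (algebraMap R L) ≫ (Scheme.ΓSpecIso (CommRingCat.of L)).inv := by
      have h1 : (Scheme.ΓSpecIso R).hom ≫ V.toScheme.isoSpec.inv.appTop = 𝟙 _ := by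
        rw [← Scheme.toSpecΓ_appTop, ← Scheme.Hom.comp_appTop, ← Scheme.isoSpec_hom, Iso.inv_hom_id]
        rfl
      have h2 : V.toScheme.isoSpec.inv.appTop = (Scheme.ΓSpecIso R).inv := by
        rw [← Category.id_comp V.toScheme.isoSpec.inv.appTop, ← (Scheme.ΓSpecIso R).inv_hom_id, Category.assoc, h1,
          Category.comp_id]
      simp only [t, Scheme.Hom.comp_appTop, h2]
      exact (Scheme.ΓSpecIso_inv_naturality _).symm
    letI : Algebra L A := (Scheme.ΓSpecIso (CommRingCat.of L)).inv.hom.toAlgebra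
    haveI : IsScalarTower R L A := .of_algebraMap_eq' congr($(ht).hom)
    -- free over `R_b`
    let a₀ := a Ws
    have hdvd : a₀ ∣ b := Finset.dvd_prod_of_mem _ (Finset.mem_univ Ws)
    letI : Algebra (Localization.Away a₀) L :=
      (IsLocalization.Away.lift (S := Localization.Away a₀) a₀ (g := algebraMap R L)
        (isUnit_of_dvd_unit (map_dvd (algebraMap R L) hdvd) (IsLocalization.Away.algebraMap_isUnit b))).toAlgebra
    haveI : IsScalarTower R (Localization.Away a₀) L :=
      .of_algebraMap_eq fun r => (IsLocalization.Away.lift_eq _ _ r).symm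
    haveI : Module.Free (Localization.Away a₀) (Localization.Away a₀ ⊗[R] B) := hfree Ws
    haveI : Module.Free L (L ⊗[R] B) :=
      Module.Free.of_equiv (TensorProduct.AlgebraTensorModule.cancelBaseChange R (Localization.Away a₀) L L B)
    haveI : Module.Free A (A ⊗[R] B) :=
      Module.Free.of_equiv (TensorProduct.AlgebraTensorModule.cancelBaseChange R L A A B)
    exact Module.Projective.of_equiv (Algebra.IsPushout.equiv R A B P).toLinearEquiv
  let e : U.toScheme ⟶ Spec (CommRingCat.of L) := τ.isoOpensRange.inv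
  have he : e ≫ τ = U.ι := τ.isoOpensRange_inv_comp
  let π : pullback f U.ι ⟶ pullback f τ :=
    pullback.lift (pullback.fst f U.ι) (pullback.snd f U.ι ≫ e) (by rw [Category.assoc, he, pullback.condition])
  refine hcov.of_isPullback (π := π) (t := e) ?_
  refine IsPullback.of_right ?_ (pullback.lift_snd _ _ _) (IsPullback.of_hasPullback f τ)
  rw [show π ≫ pullback.fst f τ = pullback.fst f U.ι from pullback.lift_fst _ _ _, he]
  exact IsPullback.of_hasPullback f U.ι

/-- projective covers over an affine base give essential freeness -/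
theorem isEssentiallyFree_of_hasProjCover {S X : Scheme.{u}} [IsAffine S] (f : X ⟶ S)
    (hf : S5356.HasProjCover f) : SGA3x.IsEssentiallyFree f := by
  intro s
  let g : S ⟶ ((⊤ : S.Opens) : Scheme.{u}) := S.topIso.inv
  refine ⟨⊤, trivial, isAffineOpen_top S, S, inferInstance, g, inferInstance, inferInstance, ?_⟩
  refine hf.of_isPullback (π := pullback.fst f (g ≫ (⊤ : S.Opens).ι)) (t := 𝟙 S) ?_
  have hg : g ≫ (⊤ : S.Opens).ι = 𝟙 S := S.topIso.inv_hom_id
  have := IsPullback.of_hasPullback f (g ≫ (⊤ : S.Opens).ι)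
  convert this using 1
  exact hg.symm

end Groth.Agent.GenOpen19
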